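import Mathlib.AlgebraicGeometry.Normalization
import Mathlib.AlgebraicGeometry.ValuativeCriterion
import Mathlib.RingTheory.Valuation.ValuationRing
import Mathlib.Algebra.GCDMonoid.IntegrallyClosed

/-! A finite scheme receives the smooth scheme over a valuation ring from its generic fibre. -/

set_option autoImplicit false
set_option linter.style.haveILetI false
set_option backward.isDefEq.respectTransparency.types false

universe u

open CategoryTheory CategoryTheory.Limits AlgebraicGeometry

namespace Groth.L27.InnerHom

variable (R K : Type u) [CommRing R] [IsDomain R] [IsIntegrallyClosed R] [Field K] [Algebra R K] [IsFractionRing R K]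

/-- the generic point of an integrally closed affine scheme -/
noncomputable abbrev gen : Spec (CommRingCat.of K) ⟶ Spec (CommRingCat.of R) :=
  Spec.map (CommRingCat.ofHom (algebraMap R K))

theorem isIso_fromNormalization_gen : IsIso (gen R K).fromNormalization := by
  let j := gen R K
  haveI : IsAffine j.normalization := isAffine_of_isAffineHom j.fromNormalization
  letI := (j.app ⊤).hom.toAlgebra
  let eR := (Scheme.ΓSpecIso (CommRingCat.of R)).commRingCatIsoToRingEquiv
  let eK := (Scheme.ΓSpecIso (CommRingCat.of K)).commRingCatIsoToRingEquiv
  have hnat : ∀ r, eK (j.appTop.hom r) = algebraMap R K (eR r) := fun r =>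
    ConcreteCategory.congr_hom (Scheme.ΓSpecIso_naturality (CommRingCat.ofHom (algebraMap R K))) r
  have hval : ∀ r, ((j.normalizationObjIso (isAffineOpen_top _)).hom.hom (j.fromNormalization.appTop.hom r)).1 =
      j.appTop.hom r := fun r => by
    have h1 := congr($(j.normalizationObjIso_hom_val (isAffineOpen_top _)) (j.fromNormalization.appTop.hom r))
    refine h1.trans ?_
    refine Eq.trans (congr($(j.toNormalization.appLE_eq_app (U := ⊤)) (j.fromNormalization.appTop.hom r))) ?_
    show (j.fromNormalization.appTop ≫ j.toNormalization.appTop).hom r = _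
    rw [← Scheme.Hom.comp_appTop, j.toNormalization_fromNormalization]
  have hbij : Function.Bijective j.fromNormalization.appTop.hom := by
    constructor
    · intro a b h
      have h1 := congrArg eK ((hval a).symm.trans ((congrArg (fun z => ((j.normalizationObjIso (isAffineOpen_top _)).hom.hom z).1) h).trans (hval b)))
      rw [hnat, hnat] at h1
      exact eR.injective (IsFractionRing.injective R K h1)
    · intro z
      obtain ⟨P, hP, hPz⟩ := ((j.normalizationObjIso (isAffineOpen_top _)).hom.hom z).2
      have hint : IsIntegral R (eK ((j.normalizationObjIso (isAffineOpen_top _)).hom.hom z).1) := by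
        refine ⟨P.map eR.toRingHom, hP.map _, ?_⟩
        have h1 := (Polynomial.hom_eval₂ P _ eK.toRingHom _).symm.trans ((congrArg eK.toRingHom hPz).trans (map_zero eK.toRingHom))
        rw [Polynomial.eval₂_map]
        refine Eq.trans ?_ h1
        congr 1
        ext r
        exact (hnat r).symm
      obtain ⟨y, hy⟩ := IsIntegrallyClosed.isIntegral_iff.1 hint
      refine ⟨eR.symm y, (ConcreteCategory.bijective_of_isIso (j.normalizationObjIso (isAffineOpen_top _)).hom).1 (Subtype.ext ?_)⟩
      exact eK.injective (by rw [hval, hnat, RingEquiv.apply_symm_apply, hy])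
  haveI : IsIso j.fromNormalization.appTop := (ConcreteCategory.isIso_iff_bijective _).2 hbij
  exact (HasAffineProperty.iff_of_isAffine (P := MorphismProperty.isomorphisms Scheme)).2 ⟨inferInstance, this⟩

/-- morphisms to finite schemes extend from the generic fibre of a smooth scheme -/
theorem exists_extension {P E : Scheme.{u}} (p : P ⟶ Spec (CommRingCat.of R)) [Smooth p] {P' : Scheme.{u}}
    {c : P' ⟶ P} {q : P' ⟶ Spec (CommRingCat.of K)} (h : IsPullback q c (gen R K) p)
    (π : E ⟶ P) [IsFinite π] (σ : P' ⟶ E) (hσ : σ ≫ π = c) : ∃ τ : P ⟶ E, τ ≫ π = 𝟙 P ∧ c ≫ τ = σ := by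
  let j := gen R K
  haveI := isIso_fromNormalization_gen R K
  let g := pullback.snd j p
  haveI : IsIso (pullback.snd j.fromNormalization p) := inferInstance
  haveI : IsIso g.fromNormalization := by
    rw [← j.normalizationPullback_snd p]
    infer_instance
  let e := h.isoPullback
  have hg : g = (e.inv ≫ σ) ≫ π := by
    rw [Category.assoc, hσ]
    exact h.isoPullback_inv_snd.symm
  refine ⟨inv g.fromNormalization ≫ g.normalizationDesc (e.inv ≫ σ) π hg, ?_, ?_⟩
  · rw [Category.assoc, g.normalizationDesc_comp, IsIso.inv_hom_id]
  · have hc : c = e.hom ≫ g.toNormalization ≫ g.fromNormalization := by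
      rw [g.toNormalization_fromNormalization]
      exact h.isoPullback_hom_snd.symm
    rw [hc]
    simp only [Category.assoc, IsIso.hom_inv_id_assoc]
    rw [g.toNormalization_normalizationDesc, e.hom_inv_id_assoc]

end Groth.L27.InnerHom
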