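import Groth.Agent.L25.HomScheme.Weil
import Groth.Agent.L23.InfEtaleRing
import Groth.Agent.L27.InnerHom.Norm
import Groth.Prelude.Def_FEt

/-! Internal Hom of finite etale covers. -/

set_option autoImplicit false
set_option linter.style.haveILetI false
set_option backward.isDefEq.respectTransparency.types false

universe u

open CategoryTheory CategoryTheory.Limits MonoidalCategory CartesianMonoidalCategory AlgebraicGeometry

noncomputable section

namespace Groth.L27.InnerHom

open Groth.L25.HomScheme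

variable {X : Scheme.{u}}

/-- families extend as sections -/
theorem exists_section_data (H G : Over X) {T : Over X} {P : Scheme.{u}} (c : P ⟶ (H ⊗ T).left) (a : P ⟶ G.left)
    (ha : a ≫ G.hom = c ≫ (H ⊗ T).hom)
    (τ : (H ⊗ T).left ⟶ pullback G.hom (H ⊗ T).hom) (hτ : τ ≫ pullback.snd _ _ = 𝟙 _) :
    ∃ x : H ⊗ T ⟶ G, (c ≫ τ = pullback.lift a c ha → c ≫ x.left = a) ∧
      x.left = τ ≫ pullback.fst _ _ := by
  refine ⟨Over.homMk (τ ≫ pullback.fst G.hom (H ⊗ T).hom) ?_, fun h => ?_, rfl⟩
  · show (τ ≫ _) ≫ _ = _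
    rw [Category.assoc, pullback.condition, ← Category.assoc, hτ, Category.id_comp]
  · show c ≫ τ ≫ pullback.fst G.hom (H ⊗ T).hom = a
    rw [← Category.assoc, h, pullback.lift_fst]

variable (H G : Over X) [IsFinite H.hom] [Etale H.hom] [IsFinite G.hom] [Etale G.hom]

theorem exists_finite_etale :
    ∃ (A : Over X) (υ : H ⊗ A ⟶ G), (mor H G).IsRep A υ ∧ IsFinite A.hom ∧ Etale A.hom := by
  obtain ⟨A, υ, hrep, haff, -, hfp⟩ := exists_weil H G
  haveI := haff
  haveI : LocallyOfFinitePresentation A.hom := hfp inferInstance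
  have hwhisk : ∀ {T' T : Over X} (f : T' ⟶ T) (y : T ⟶ A),
      (mor H G).res (f ≫ y) υ = (H ◁ f) ≫ (mor H G).res y υ := fun f y => (mor H G).res_comp f y υ
  refine ⟨A, υ, hrep, ?_, ?_⟩
  · rw [IsFinite.iff_isProper_and_isAffineHom]
    refine ⟨?_, haff⟩
    haveI : IsSeparated A.hom := inferInstance
    haveI : QuasiCompact A.hom := inferInstance
    haveI : UniversallyClosed A.hom := by
      apply UniversallyClosed.of_valuativeCriterion
      intro S
      let TR : Over X := Over.mk S.i₂
      let TK : Over X := Over.mk (S.i₁ ≫ A.hom)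
      let j : TK ⟶ TR := Over.homMk (gen S.R S.K) S.commSq.w.symm
      let aK : TK ⟶ A := Over.homMk S.i₁ rfl
      let xK : H ⊗ TK ⟶ G := (mor H G).res aK υ
      haveI : Etale (snd H TR).left :=
        MorphismProperty.of_isPullback (P := @Etale) (IsPullback.of_hasPullback H.hom TR.hom) inferInstance
      obtain ⟨τ, hτ₁, hτ₂⟩ := exists_extension S.R S.K (snd H TR).left (isPullback_whiskerLeft H j).flip
        (pullback.snd G.hom (H ⊗ TR).hom)
        (pullback.lift xK.left (H ◁ j).left (by rw [Over.w, Over.w]))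
        (pullback.lift_snd _ _ _)
      obtain ⟨xR, hxR, -⟩ := exists_section_data H G (H ◁ j).left xK.left (by rw [Over.w, Over.w]) τ hτ₁
      obtain ⟨aR, haR, -⟩ := hrep TR xR
      have h1 : j ≫ aR = aK := hrep.ext (by
        rw [hwhisk, haR]
        exact Over.OverMorphism.ext (hxR hτ₂))
      exact ⟨⟨⟨aR.left, congrArg CommaMorphism.left h1, Over.w aR⟩⟩⟩
    exact {}
  · refine Groth.L23.etale_of_lfp_of_formallyEtaleHom _ fun C _ I hI a b w => ?_
    let T : Over X := Over.mk b
    let T0 : Over X := Over.mk (a ≫ A.hom)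
    let j : T0 ⟶ T := Over.homMk (Spec.map (CommRingCat.ofHom (Ideal.Quotient.mk I))) w
    let a0 : T0 ⟶ A := Over.homMk a rfl
    let x0 : H ⊗ T0 ⟶ G := (mor H G).res a0 υ
    have hth : MoreMor.IsFirstOrderThickening (H ◁ j).left :=
      Groth.L23.isFirstOrder_of_isPullback (Groth.L23.isFirstOrder_specMap_quotient I hI) (isPullback_whiskerLeft H j)
    let E := pullback G.hom (H ⊗ T).hom
    let σ : (H ⊗ T0).left ⟶ E := pullback.lift x0.left (H ◁ j).left (by rw [Over.w, Over.w])
    obtain ⟨τ, ⟨hτ₁, hτ₂⟩, hτu⟩ := Groth.L23.existsUnique_section (pullback.snd G.hom (H ⊗ T).hom)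
      (H ◁ j).left hth.1 σ (pullback.lift_snd _ _ _)
    obtain ⟨x, hx, hxl⟩ := exists_section_data H G (H ◁ j).left x0.left (by rw [Over.w, Over.w]) τ hτ₁
    obtain ⟨aT, haT, -⟩ := hrep T x
    have hj : j ≫ aT = a0 := hrep.ext (by
      rw [hwhisk, haT]
      exact Over.OverMorphism.ext (hx hτ₂))
    refine ⟨aT.left, ⟨congrArg CommaMorphism.left hj, Over.w aT⟩, ?_⟩
    rintro l ⟨hl₁, hl₂⟩
    let lT : T ⟶ A := Over.homMk l hl₂
    let y : H ⊗ T ⟶ G := (mor H G).res lT υ
    have hy : (H ◁ j) ≫ y = x0 := by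
      rw [← hwhisk]
      exact congrArg (fun z => (mor H G).res z υ) (Over.OverMorphism.ext hl₁ : j ≫ lT = a0)
    have hτy : pullback.lift y.left (𝟙 _) (by rw [Over.w, Category.id_comp]) = τ := by
      refine hτu _ ⟨pullback.lift_snd _ _ _, pullback.hom_ext ?_ ?_⟩
      · rw [Category.assoc, pullback.lift_fst]
        exact (congrArg CommaMorphism.left hy).trans (pullback.lift_fst _ _ _).symm
      · rw [Category.assoc, pullback.lift_snd, Category.comp_id]
        exact (pullback.lift_snd _ _ _).symm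
    have hxy : y = x := Over.OverMorphism.ext (by rw [hxl, ← hτy, pullback.lift_fst])
    have := hrep.ext (a := lT) (b := aT) (hxy.trans haT.symm)
    exact congrArg CommaMorphism.left this

/-- the internal Hom object -/
theorem exists_internalHom (U V : FEt.Cat X) :
    ∃ W : FEt.Cat X, ∀ (T : Scheme.{u}) (g : T ⟶ X),
      Nonempty ({s : T ⟶ W.left // s ≫ W.hom = g} ≃ ((FEt.restrict g).obj U ⟶ (FEt.restrict g).obj V)) := by
  haveI : IsFinite U.hom := U.prop.1
  haveI : Etale U.hom := U.prop.2
  haveI : IsFinite V.hom := V.prop.1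
  haveI : Etale V.hom := V.prop.2
  let H : Over X := Over.mk U.hom
  let G : Over X := Over.mk V.hom
  haveI : IsFinite H.hom := U.prop.1
  haveI : Etale H.hom := U.prop.2
  haveI : IsFinite G.hom := V.prop.1
  haveI : Etale G.hom := V.prop.2
  obtain ⟨A, υ, hrep, hfin, het⟩ := exists_finite_etale H G
  refine ⟨MorphismProperty.Over.mk ⊤ A.hom ⟨hfin, het⟩, fun T g => ⟨?_⟩⟩
  let e1 : {s : T ⟶ A.left // s ≫ A.hom = g} ≃ (H ⊗ Over.mk g ⟶ G) :=
    (Equiv.mk (fun s => (Over.homMk s.1 s.2 : Over.mk g ⟶ A)) (fun a => ⟨a.left, Over.w a⟩)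
      (fun s => rfl) (fun a => Over.OverMorphism.ext rfl)).trans
    (Equiv.ofBijective (fun a => (mor H G).res a υ) ⟨fun a b h => hrep.ext h, fun x => (hrep _ x).exists⟩)
  refine e1.trans
    { toFun := fun x => MorphismProperty.Over.homMk
        (pullback.lift x.left (pullback.snd U.hom g) ((Over.w x).trans pullback.condition) :
          pullback U.hom g ⟶ pullback V.hom g) (pullback.lift_snd _ _ _)
      invFun := fun φ =>
        let m : pullback U.hom g ⟶ pullback V.hom g := φ.left
        Over.homMk (m ≫ pullback.fst V.hom g) (by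
        have hm : m ≫ pullback.snd V.hom g = pullback.snd U.hom g := MorphismProperty.Over.w φ
        show (m ≫ pullback.fst V.hom g) ≫ V.hom = pullback.fst U.hom g ≫ U.hom
        rw [Category.assoc, pullback.condition, ← Category.assoc, hm]
        exact pullback.condition.symm)
      left_inv := fun x => Over.OverMorphism.ext (pullback.lift_fst _ _ _)
      right_inv := fun φ => MorphismProperty.Over.Hom.ext (pullback.hom_ext (pullback.lift_fst _ _ _)
        ((pullback.lift_snd _ _ _).trans (MorphismProperty.Over.w φ).symm)) }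

end Groth.L27.InnerHom
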